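import Groth.Prelude.Def_SGA4a
import Mathlib.CategoryTheory.Limits.VanKampen
import Mathlib.CategoryTheory.Limits.Shapes.Pullback.Mono
import Mathlib.CategoryTheory.Limits.Preserves.Shapes.Equalizers
import Mathlib.CategoryTheory.EffectiveEpi.Basic
import Mathlib.CategoryTheory.InducedCategory
import Mathlib.CategoryTheory.Sites.Sheafification

/-!
Giraud's theorem: coverings in a category satisfying Giraud's axioms.
-/

set_option autoImplicit false
set_option linter.style.haveILetI false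

universe u v w

open CategoryTheory CategoryTheory.Limits

namespace Groth.Agent.GiraudThm

variable {E : Type v} [Category.{u} E]

/-- An extremal epimorphic family: no proper subobject of the target contains all its members. -/
def Cov {ι : Type w} {Y : E} {G : ι → E} (g : ∀ i, G i ⟶ Y) : Prop :=
  ∀ ⦃Q : E⦄ (m : Q ⟶ Y), Mono m → (∀ i, ∃ t, t ≫ m = g i) → IsIso m

theorem cov_of_effectiveEpi {Y : E} {X : E} (π : X ⟶ Y) [EffectiveEpi π] :
    Cov (fun _ : PUnit.{u + 1} => π) := by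
  intro Q m _ h
  obtain ⟨t, ht⟩ := h ⟨⟩
  let s : Y ⟶ Q := EffectiveEpi.desc π t fun g₁ g₂ hg => by
    rw [← cancel_mono m, Category.assoc, Category.assoc, ht, hg]
  have hs : s ≫ m = 𝟙 Y := by
    rw [← cancel_epi π, EffectiveEpi.fac_assoc, ht, Category.comp_id]
  exact ⟨s, by rw [← cancel_mono m, Category.assoc, hs, Category.comp_id, Category.id_comp], hs⟩

variable [HasFiniteLimits E]

theorem hom_ext_of_cov {ι : Type w} {Y : E} {G : ι → E} {g : ∀ i, G i ⟶ Y} (hg : Cov g) {Z : E}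
    {a b : Y ⟶ Z} (h : ∀ i, g i ≫ a = g i ≫ b) : a = b := by
  haveI := hg (equalizer.ι a b) inferInstance fun i => ⟨equalizer.lift (g i) (h i), equalizer.lift_ι _ _⟩
  exact (cancel_epi (equalizer.ι a b)).1 (equalizer.condition a b)

theorem exists_factor_of_cov {ι : Type w} {Y : E} {G : ι → E} {g : ∀ i, G i ⟶ Y} (hg : Cov g) {X Q : E}
    (k : Y ⟶ X) (m : Q ⟶ X) [Mono m] (h : ∀ i, ∃ t, t ≫ m = g i ≫ k) : ∃ t, t ≫ m = k := by
  haveI := hg (pullback.snd m k) inferInstance fun i => by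
    obtain ⟨t, ht⟩ := h i
    exact ⟨pullback.lift t (g i) ht, pullback.lift_snd _ _ _⟩
  exact ⟨inv (pullback.snd m k) ≫ pullback.fst m k, by
    rw [Category.assoc, IsIso.inv_comp_eq, pullback.condition]⟩

variable (hb : SGA4.HasDisjointUniversalCoproducts.{v, u} E)
  (hc : ∀ (R A : E) (p₁ p₂ : R ⟶ A), SGA4.IsEquivRel p₁ p₂ → SGA4.IsEffectiveUniversalEquivRel p₁ p₂)

include hb in
/-- The pieces of an object over a universal coproduct form a coproduct. -/
theorem hom_ext_over {ι : Type u} {X : ι → E} {c : Cofan X} (hu : IsUniversalColimit c) {T Z : E} (f : T ⟶ c.pt)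
    {a b : T ⟶ Z} (h : ∀ (i : ι) (S : E) (r : S ⟶ T) (s : S ⟶ X i), r ≫ f = s ≫ c.inj i → r ≫ a = r ≫ b) :
    a = b := by
  let c' : Cofan (fun i => pullback f (c.inj i)) := Cofan.mk T fun i => pullback.fst f (c.inj i)
  obtain ⟨hc'⟩ := hu c' (Discrete.natTrans fun i => pullback.snd f (c.inj i.as)) f
    (by ext ⟨i⟩; exact pullback.condition.symm) (NatTrans.equifibered_of_discrete _)
    fun ⟨i⟩ => IsPullback.of_hasPullback f (c.inj i)
  exact Cofan.IsColimit.hom_ext hc' _ _ fun i => h i _ _ (pullback.snd f (c.inj i)) pullback.condition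

include hc in
/-- Image factorization: a quotient map with universally effective base changes followed by a mono. -/
theorem exists_image {X Y : E} (f : X ⟶ Y) :
    ∃ (Q : E) (π : X ⟶ Q) (m : Q ⟶ Y), π ≫ m = f ∧ Mono m ∧ EffectiveEpi π ∧
      (∀ (T : E) (g : T ⟶ Q), EffectiveEpi (pullback.snd π g)) ∧
      IsPullback (pullback.fst f f) (pullback.snd f f) π π := by
  have hr : SGA4.IsEquivRel (pullback.fst f f) (pullback.snd f f) := by
    intro T
    refine ⟨fun a b h => pullback.hom_ext (congrArg Prod.fst h) (congrArg Prod.snd h), ?_⟩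
    have hiff : ∀ a b : T ⟶ X, (∃ t : T ⟶ pullback f f, t ≫ pullback.fst f f = a ∧ t ≫ pullback.snd f f = b) ↔
        a ≫ f = b ≫ f := fun a b =>
      ⟨fun ⟨t, ha, hb'⟩ => by rw [← ha, ← hb', Category.assoc, Category.assoc, pullback.condition],
        fun h => ⟨pullback.lift a b h, pullback.lift_fst _ _ _, pullback.lift_snd _ _ _⟩⟩
    exact ⟨fun a => (hiff a a).2 rfl, fun {a b} h => (hiff b a).2 ((hiff a b).1 h).symm,
      fun {a b c} h h' => (hiff a c).2 (((hiff a b).1 h).trans ((hiff b c).1 h'))⟩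
  obtain ⟨Q, π, hpb, hpo, huniv⟩ := hc _ _ _ _ hr
  let m : Q ⟶ Y := hpo.desc f f pullback.condition
  have hm : π ≫ m = f := hpo.inl_desc _ _ _
  have hEE : EffectiveEpi π :=
    ⟨⟨{ desc := fun e h => hpo.desc e e (h _ _ hpb.w)
        fac := fun e h => hpo.inl_desc e e (h _ _ hpb.w)
        uniq := fun e h k hk => hpo.hom_ext (hk.trans (hpo.inl_desc e e (h _ _ hpb.w)).symm)
          (hk.trans (hpo.inr_desc e e (h _ _ hpb.w)).symm) }⟩⟩
  refine ⟨Q, π, m, hm, ⟨fun {T} u v huv => ?_⟩, hEE, huniv, hpb⟩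
  haveI := huniv T u
  let e₁ := pullback.snd π u
  haveI := huniv _ (e₁ ≫ v)
  let e₂ := pullback.snd π (e₁ ≫ v)
  have h1 : (e₂ ≫ pullback.fst π u) ≫ f = pullback.fst π (e₁ ≫ v) ≫ f := by
    rw [← hm, Category.assoc, pullback.condition_assoc, huv, pullback.condition_assoc, Category.assoc]
  let t := pullback.lift (e₂ ≫ pullback.fst π u) (pullback.fst π (e₁ ≫ v)) h1
  have h2 : (e₂ ≫ pullback.fst π u) ≫ π = pullback.fst π (e₁ ≫ v) ≫ π := by
    have h := congrArg (t ≫ ·) hpb.w
    simp only [t, pullback.lift_fst_assoc, pullback.lift_snd_assoc] at h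
    exact h
  rw [Category.assoc, pullback.condition, pullback.condition] at h2
  exact (cancel_epi e₁).1 ((cancel_epi e₂).1 (by simpa [e₁, e₂] using h2))

include hb hc in
/-- Covering families are stable under base change. -/
theorem cov_pullback {ι : Type u} {Y : E} {G : ι → E} {g : ∀ i, G i ⟶ Y} (hg : Cov g) {Y' : E} (k : Y' ⟶ Y) :
    Cov (fun i => pullback.snd (g i) k) := by
  obtain ⟨c, hcl, -, hu⟩ := hb ι G
  obtain ⟨Q, π, m, hm, hmono, -, huniv, -⟩ := exists_image hc (Cofan.IsColimit.desc hcl g)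
  haveI := hg m hmono fun i => ⟨c.inj i ≫ π, by rw [Category.assoc, hm, Cofan.IsColimit.fac]⟩
  intro Q' m' _ h'
  haveI := huniv Y' (k ≫ inv m)
  let e := pullback.snd π (k ≫ inv m)
  let fst := pullback.fst π (k ≫ inv m)
  let P := fun i => pullback fst (c.inj i)
  let c' : Cofan P := Cofan.mk _ fun i => pullback.fst fst (c.inj i)
  obtain ⟨hc'⟩ := hu c' (Discrete.natTrans fun i => pullback.snd fst (c.inj i.as)) fst
    (by ext ⟨i⟩; exact pullback.condition.symm) (NatTrans.equifibered_of_discrete _)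
    fun ⟨i⟩ => IsPullback.of_hasPullback fst (c.inj i)
  have hfac : ∀ i, ∃ t, t ≫ m' = pullback.fst fst (c.inj i) ≫ e := fun i => by
    obtain ⟨t, ht⟩ := h' i
    have hw : pullback.snd fst (c.inj i) ≫ g i = (pullback.fst fst (c.inj i) ≫ e) ≫ k := by
      have h1 : fst ≫ π ≫ m = e ≫ k := by
        simp only [fst, e, pullback.condition_assoc, Category.assoc, IsIso.inv_hom_id, Category.comp_id]
      rw [Category.assoc, ← h1, hm, pullback.condition_assoc, Cofan.IsColimit.fac]
    exact ⟨pullback.lift _ _ hw ≫ t, by rw [Category.assoc, ht, pullback.lift_snd]⟩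
  choose t ht using hfac
  refine cov_of_effectiveEpi e m' inferInstance fun _ => ⟨Cofan.IsColimit.desc hc' t, ?_⟩
  exact Cofan.IsColimit.hom_ext hc' _ _ fun i => by
    rw [← Category.assoc, Cofan.IsColimit.fac]
    exact ht i

include hb hc in
/-- Covering families are effective. -/
theorem exists_glue {ι : Type u} {Y Z : E} {G : ι → E} {g : ∀ i, G i ⟶ Y} (hg : Cov g) (a : ∀ i, G i ⟶ Z)
    (h : ∀ (T : E) (i j : ι) (u : T ⟶ G i) (v : T ⟶ G j), u ≫ g i = v ≫ g j → u ≫ a i = v ≫ a j) :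
    ∃ A : Y ⟶ Z, ∀ i, g i ≫ A = a i := by
  obtain ⟨c, hcl, -, hu⟩ := hb ι G
  obtain ⟨Q, π, m, hm, hmono, hπ, -, -⟩ := exists_image hc (Cofan.IsColimit.desc hcl g)
  haveI := hg m hmono fun i => ⟨c.inj i ≫ π, by rw [Category.assoc, hm, Cofan.IsColimit.fac]⟩
  haveI := hπ
  let A : Q ⟶ Z := EffectiveEpi.desc π (Cofan.IsColimit.desc hcl a) fun {T} g₁ g₂ hg' => by
    refine hom_ext_over hb hu g₁ fun i S r s hrs => hom_ext_over hb hu (r ≫ g₂) fun j S' r' s' hrs' => ?_
    have h' : (r' ≫ s) ≫ g i = s' ≫ g j := by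
      have hh := congrArg (fun x => r' ≫ r ≫ x ≫ m) hg'
      simp only [Category.assoc, hm] at hh
      simp only [Category.assoc, Cofan.IsColimit.fac] at hh ⊢
      have e1 : r' ≫ r ≫ g₁ ≫ Cofan.IsColimit.desc hcl g = r' ≫ s ≫ g i := by
        rw [reassoc_of% hrs, Cofan.IsColimit.fac]
      have e2 : r' ≫ r ≫ g₂ ≫ Cofan.IsColimit.desc hcl g = s' ≫ g j := by
        rw [reassoc_of% hrs', Cofan.IsColimit.fac]
      exact e1.symm.trans (hh.trans e2)
    have h2 := h S' i j (r' ≫ s) s' h'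
    rw [reassoc_of% hrs, Cofan.IsColimit.fac, reassoc_of% hrs', Cofan.IsColimit.fac]
    simpa using h2
  refine ⟨inv m ≫ A, fun i => ?_⟩
  have e1 : g i = (c.inj i ≫ π) ≫ m := by rw [Category.assoc, hm, Cofan.IsColimit.fac]
  rw [e1, Category.assoc, IsIso.hom_inv_id_assoc, Category.assoc, EffectiveEpi.fac, Cofan.IsColimit.fac]

include hb in
/-- An initial object is covered by the empty family, so is every object over it. -/
theorem cov_empty {I : E} (hI : IsInitial I) : Cov (fun x : PEmpty.{u + 1} => (x.elim : (PEmpty.elim x : E) ⟶ I)) := by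
  intro Q m _ _
  exact ⟨hI.to Q, by rw [← cancel_mono m, Category.assoc]; simp [hI.hom_ext (hI.to Q ≫ m) (𝟙 I)], hI.hom_ext _ _⟩

section Generators

variable {C : Type u} {o : C → E}
  (hgen : ∀ ⦃X Y : E⦄ (f : X ⟶ Y), (∀ (c : C) (h : o c ⟶ Y), ∃! h' : o c ⟶ X, h' ≫ f = h) → IsIso f)

include hgen in
theorem cov_generators (Y : E) : Cov (fun p : (Σ c, o c ⟶ Y) => p.2) := by
  intro Q m _ h
  refine hgen m fun c k => ?_
  obtain ⟨t, ht⟩ := h ⟨c, k⟩
  exact ⟨t, ht, fun t' ht' => (cancel_mono m).1 (ht'.trans ht.symm)⟩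

end Generators

end Groth.Agent.GiraudThm
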