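import Groth.Agent.GiraudThm.Basic
import Mathlib.CategoryTheory.Sites.SheafOfTypes
import Mathlib.CategoryTheory.Limits.Shapes.BinaryProducts

/-!
Giraud's theorem: the site of generators and the equivalence.
-/

set_option autoImplicit false
set_option linter.style.haveILetI false

universe u v w

open CategoryTheory CategoryTheory.Limits Opposite

namespace Groth.Agent.GiraudThm

variable {E : Type v} [Category.{u} E] [HasFiniteLimits E]

/-- The data of Giraud's axioms with a small family of generators. -/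
structure Ax {C : Type u} (o : C → E) : Prop where
  hb : SGA4.HasDisjointUniversalCoproducts.{v, u} E
  hc : ∀ (R A : E) (p₁ p₂ : R ⟶ A), SGA4.IsEquivRel p₁ p₂ → SGA4.IsEffectiveUniversalEquivRel p₁ p₂
  hgen : ∀ ⦃X Y : E⦄ (f : X ⟶ Y), (∀ (c : C) (h : o c ⟶ Y), ∃! h' : o c ⟶ X, h' ≫ f = h) → IsIso f

variable {C : Type u} {o : C → E} (A : Ax o)

local notation "𝒞" => InducedCategory E o

/-- A sieve covers if its arrows form an extremal epimorphic family. -/
def SieveCov {c : 𝒞} (S : Sieve c) : Prop := Cov (fun p : (Σ d : 𝒞, {k : d ⟶ c // S k}) => p.2.1.hom)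

include A in
/-- The sieve of arrows factoring through a covering family covers. -/
theorem sieveCov_of_cov {ι : Type u} {Y : E} {G : ι → E} {g : ∀ i, G i ⟶ Y} (hg : Cov g) (c : 𝒞) (x : o c ⟶ Y)
    (S : Sieve c) (hS : ∀ (d : 𝒞) (k : d ⟶ c) (i : ι) (t : o d ⟶ G i), t ≫ g i = k.hom ≫ x → S k) : SieveCov S := by
  intro Q m _ h
  refine cov_pullback A.hb A.hc hg x m inferInstance fun i => ?_
  refine exists_factor_of_cov (cov_generators A.hgen _) _ m ?_
  rintro ⟨d, w⟩
  exact h ⟨d, InducedCategory.homMk (w ≫ pullback.snd (g i) x),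
    hS _ _ i (w ≫ pullback.fst (g i) x) (by
      show (w ≫ pullback.fst (g i) x) ≫ g i = (w ≫ pullback.snd (g i) x) ≫ x
      rw [Category.assoc, Category.assoc, pullback.condition])⟩

include A in
theorem sieveCov_pullback {c d : 𝒞} {S : Sieve c} (hS : SieveCov S) (f : d ⟶ c) : SieveCov (S.pullback f) :=
  sieveCov_of_cov A hS d f.hom _ fun e k p t ht => by
    show S (k ≫ f)
    rw [show k ≫ f = InducedCategory.homMk t ≫ p.2.1 from InducedCategory.hom_ext ht.symm]
    exact S.downward_closed p.2.2 _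

/-- The topology on the generators. -/
def topology : GrothendieckTopology 𝒞 where
  sieves c := {S | SieveCov S}
  top_mem' c Q m _ h := by
    obtain ⟨t, ht⟩ := h ⟨c, 𝟙 c, trivial⟩
    have ht' : t ≫ m = 𝟙 (o c) := ht
    exact ⟨t, by rw [← cancel_mono m, Category.assoc, ht', Category.comp_id, Category.id_comp], ht'⟩
  pullback_stable' _ _ _ f hS := sieveCov_pullback A hS f
  transitive' c S hS R hR Q m _ h := by
    refine hS m inferInstance fun p => ?_
    refine exists_factor_of_cov (hR p.2.2) p.2.1.hom m fun q => ?_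
    obtain ⟨t, ht⟩ := h ⟨q.1, q.2.1 ≫ p.2.1, q.2.2⟩
    exact ⟨t, ht⟩

/-- Maps out of the generators. -/
noncomputable def nerve : E ⥤ Sheaf (topology A) (Type u) where
  obj X :=
    ⟨(inducedFunctor o).op ⋙ yoneda.obj X, by
      rw [isSheaf_iff_isSheaf_of_type]
      intro c S (hS : SieveCov S) x hx
      obtain ⟨a, ha⟩ := exists_glue A.hb A.hc hS (Z := X) (fun p => x p.2.1 p.2.2) (fun T i j s t hst => by
        refine hom_ext_of_cov (cov_generators A.hgen T) fun q => ?_
        obtain ⟨d, w⟩ := q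
        have := hx (InducedCategory.homMk (X := (d : 𝒞)) (w ≫ s)) (InducedCategory.homMk (X := (d : 𝒞)) (w ≫ t))
          i.2.2 j.2.2 (InducedCategory.hom_ext (by
            show (w ≫ s) ≫ i.2.1.hom = (w ≫ t) ≫ j.2.1.hom
            rw [Category.assoc, Category.assoc, hst]))
        simpa using this)
      exact ⟨a, fun d k hk => ha ⟨d, k, hk⟩, fun a' ha' =>
        hom_ext_of_cov hS fun p => (ha' p.2.1 p.2.2).trans (ha p).symm⟩⟩
  map f := ⟨Functor.whiskerLeft _ (yoneda.map f)⟩
  map_id X := by apply Sheaf.hom_ext; ext c x; exact Category.comp_id x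
  map_comp f g := by apply Sheaf.hom_ext; ext c x; exact (Category.assoc x f g).symm

theorem nerve_faithful : (nerve A).Faithful := ⟨fun {X Y} f g h => by
  refine hom_ext_of_cov (cov_generators A.hgen X) fun p => ?_
  exact ConcreteCategory.congr_hom (congrArg (fun η : (nerve A).obj X ⟶ (nerve A).obj Y => η.hom.app (op (p.1 : 𝒞))) h) p.2⟩

theorem nerve_full : (nerve A).Full := ⟨fun {X Y} η => by
  have hnat : ∀ {d c : 𝒞} (k : o d ⟶ o c) (x : o c ⟶ X),
      η.hom.app (op d) (k ≫ x) = k ≫ η.hom.app (op c) x := fun {d c} k x =>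
    ConcreteCategory.congr_hom (η.hom.naturality (InducedCategory.homMk (X := d) (Y := c) k).op) x
  obtain ⟨f, hf⟩ := exists_glue A.hb A.hc (cov_generators A.hgen X) (Z := Y)
    (fun p => η.hom.app (op (p.1 : 𝒞)) p.2) (fun T i j s t hst => by
      refine hom_ext_of_cov (cov_generators A.hgen T) fun q => ?_
      show q.2 ≫ s ≫ η.hom.app (op (i.1 : 𝒞)) i.2 = q.2 ≫ t ≫ η.hom.app (op (j.1 : 𝒞)) j.2
      have h1 := hnat (d := q.1) (c := i.1) (q.2 ≫ s) i.2
      have h2 := hnat (d := q.1) (c := j.1) (q.2 ≫ t) j.2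
      exact (Category.assoc _ _ _).symm.trans (h1.symm.trans ((congrArg (η.hom.app (op (q.1 : 𝒞)))
        (show (q.2 ≫ s) ≫ i.2 = (q.2 ≫ t) ≫ j.2 by rw [Category.assoc, Category.assoc, hst])).trans
          (h2.trans (Category.assoc _ _ _)))))
  refine ⟨f, ?_⟩
  apply Sheaf.hom_ext
  ext ⟨c⟩ x
  exact hf ⟨c, x⟩⟩

include A in
/-- Every sheaf on the generators is a nerve. -/
theorem exists_iso_nerve (P : Sheaf (topology A) (Type u)) : ∃ B : E, Nonempty ((nerve A).obj B ≅ P) := by
  classical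
  have hP : Presieve.IsSheaf (topology A) P.obj := (isSheaf_iff_isSheaf_of_type _ P.obj).1 P.property
  have sep : ∀ {c : 𝒞} {S : Sieve c}, SieveCov S → ∀ {a b : P.obj.obj (op c)},
      (∀ ⦃d : 𝒞⦄ ⦃k : d ⟶ c⦄, S k → P.obj.map k.op a = P.obj.map k.op b) → a = b :=
    fun hS => (hP.isSeparated _ hS).ext
  let I := Σ c : 𝒞, P.obj.obj (op c)
  obtain ⟨cA, hcA, hdis, huA⟩ := A.hb I (fun i => o i.1)
  have hcovA : Cov fun i => cA.inj i := fun Q m _ h => by
    choose t ht using h
    have hs : Cofan.IsColimit.desc hcA t ≫ m = 𝟙 cA.pt :=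
      Cofan.IsColimit.hom_ext hcA _ _ fun i => by rw [← Category.assoc, Cofan.IsColimit.fac, ht, Category.comp_id]
    exact ⟨_, by rw [← cancel_mono m, Category.assoc, hs, Category.comp_id, Category.id_comp], hs⟩
  -- compatibility of the tautological sections
  have hcompat : ∀ (d : 𝒞) (i j : I) (s : d ⟶ i.1) (t : d ⟶ j.1), s.hom ≫ cA.inj i = t.hom ≫ cA.inj j →
      P.obj.map s.op i.2 = P.obj.map t.op j.2 := by
    intro d i j s t hst
    by_cases hij : i = j
    · subst hij
      haveI := hdis.mono_inj hcA i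
      rw [show s = t from InducedCategory.hom_ext ((cancel_mono (cA.inj i)).1 hst)]
    · obtain ⟨hI⟩ := hdis.nonempty_isInitial_of_ne hcA hij (pullback.cone (cA.inj i) (cA.inj j)) (pullback.isLimit _ _)
      have hempty := sieveCov_of_cov A (cov_empty A.hb hI) d (pullback.lift s.hom t.hom hst) ⊥
        (fun _ _ x => x.elim)
      exact sep hempty fun _ _ hk => hk.elim
  -- the sections over maps into the coproduct
  have hex : ∀ (c : 𝒞) (x : o c ⟶ cA.pt), ∃ a : P.obj.obj (op c), ∀ (d : 𝒞) (k : d ⟶ c) (i : I) (s : d ⟶ i.1),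
      s.hom ≫ cA.inj i = k.hom ≫ x → P.obj.map k.op a = P.obj.map s.op i.2 := by
    intro c x
    let S : Sieve c :=
      { arrows := fun d k => ∃ (i : I) (s : d ⟶ i.1), s.hom ≫ cA.inj i = k.hom ≫ x
        downward_closed := by
          rintro d d' k ⟨i, s, hs⟩ l
          exact ⟨i, l ≫ s, by
            show (l.hom ≫ s.hom) ≫ cA.inj i = (l.hom ≫ k.hom) ≫ x
            rw [Category.assoc, Category.assoc, hs]⟩ }
    have hS : SieveCov S := sieveCov_of_cov A hcovA c x S fun d k i t ht => ⟨i, InducedCategory.homMk t, ht⟩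
    let fam : Presieve.FamilyOfElements P.obj S.arrows := fun d k hk => P.obj.map hk.choose_spec.choose.op hk.choose.2
    have hfam : fam.Compatible := by
      intro d₁ d₂ e l₁ l₂ k₁ k₂ h₁ h₂ heq
      simp only [fam, ← Functor.map_comp_apply, ← op_comp]
      refine hcompat _ _ _ _ _ ?_
      show (l₁.hom ≫ _) ≫ _ = (l₂.hom ≫ _) ≫ _
      rw [Category.assoc, Category.assoc, h₁.choose_spec.choose_spec, h₂.choose_spec.choose_spec,
        ← Category.assoc, ← Category.assoc]
      exact congrArg (· ≫ x) (congrArg InducedCategory.Hom.hom heq)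
    refine ⟨(hP S hS).amalgamate fam hfam, fun d k i s hs => ?_⟩
    have hk : S k := ⟨i, s, hs⟩
    rw [(hP S hS).valid_glue hfam k hk]
    exact hcompat _ _ _ _ _ (hk.choose_spec.choose_spec.trans hs.symm)
  choose a ha using hex
  have ha_nat : ∀ {c c' : 𝒞} (l : c' ⟶ c) (x : o c ⟶ cA.pt), P.obj.map l.op (a c x) = a c' (l.hom ≫ x) := by
    intro c c' l x
    refine sep (sieveCov_of_cov A hcovA c' (l.hom ≫ x)
      { arrows := fun d k => ∃ (i : I) (s : d ⟶ i.1), s.hom ≫ cA.inj i = k.hom ≫ l.hom ≫ x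
        downward_closed := by
          rintro d d' k ⟨i, s, hs⟩ r
          exact ⟨i, r ≫ s, by
            show (r.hom ≫ s.hom) ≫ cA.inj i = (r.hom ≫ k.hom) ≫ l.hom ≫ x
            rw [Category.assoc, Category.assoc, hs]⟩ }
      fun d k i t ht => ⟨i, InducedCategory.homMk t, ht⟩) ?_
    rintro d k ⟨i, s, hs⟩
    rw [← Functor.map_comp_apply, ← op_comp, ha c' _ d k i s hs]
    exact ha c x d (k ≫ l) i s (hs.trans (Category.assoc _ _ _).symm)
  -- the relation
  let I₂ := Σ c : 𝒞, {z : o c ⟶ cA.pt ⨯ cA.pt // a c (z ≫ prod.fst) = a c (z ≫ prod.snd)}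
  obtain ⟨cR, hcR, -, -⟩ := A.hb I₂ (fun i => o i.1)
  obtain ⟨R, ρ, m, hρm, hmono, hρ, -, -⟩ := exists_image A.hc (Cofan.IsColimit.desc hcR fun i : I₂ => i.2.1)
  have hcovR : Cov fun i => cR.inj i ≫ ρ := fun Q n _ h => by
    choose t ht using h
    haveI := hρ
    refine cov_of_effectiveEpi ρ n inferInstance fun _ => ⟨Cofan.IsColimit.desc hcR t, ?_⟩
    exact Cofan.IsColimit.hom_ext hcR _ _ fun i => by rw [← Category.assoc, Cofan.IsColimit.fac, ht]
  have hrel : ∀ (T : E) (s t : T ⟶ cA.pt), (∃ f : T ⟶ R, f ≫ m ≫ prod.fst = s ∧ f ≫ m ≫ prod.snd = t) ↔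
      ∀ (c : 𝒞) (x : o c ⟶ T), a c (x ≫ s) = a c (x ≫ t) := by
    intro T s t
    constructor
    · rintro ⟨f, rfl, rfl⟩ c x
      refine sep (sieveCov_of_cov A hcovR c (x ≫ f)
        { arrows := fun d k => ∃ (i : I₂) (r : d ⟶ i.1), r.hom ≫ cR.inj i ≫ ρ = k.hom ≫ x ≫ f
          downward_closed := by
            rintro d d' k ⟨i, r, hr⟩ l
            exact ⟨i, l ≫ r, by
              show (l.hom ≫ r.hom) ≫ cR.inj i ≫ ρ = (l.hom ≫ k.hom) ≫ x ≫ f
              rw [Category.assoc, Category.assoc, hr]⟩ }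
        fun d k i r hr => ⟨i, InducedCategory.homMk r, hr⟩) ?_
      rintro d k ⟨i, r, hr⟩
      have hi : cR.inj i ≫ ρ ≫ m = i.2.1 := by rw [hρm, Cofan.IsColimit.fac]
      have key := congrArg (P.obj.map r.op) i.2.2
      rw [ha_nat, ha_nat] at key
      rw [ha_nat, ha_nat]
      have e : k.hom ≫ x ≫ f ≫ m = r.hom ≫ i.2.1 := by
        rw [← hi, ← reassoc_of% hr]
      rw [← reassoc_of% e, ← reassoc_of% e] at key
      exact key
    · intro h
      obtain ⟨f, hf⟩ := exists_factor_of_cov (cov_generators A.hgen T) (prod.lift s t) m fun p => by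
        refine ⟨cR.inj ⟨p.1, p.2 ≫ prod.lift s t, ?_⟩ ≫ ρ, ?_⟩
        · rw [Category.assoc, Category.assoc, prod.lift_fst, prod.lift_snd]
          exact h p.1 p.2
        · rw [Category.assoc, hρm, Cofan.IsColimit.fac]
      exact ⟨f, by rw [← Category.assoc, hf, prod.lift_fst], by rw [← Category.assoc, hf, prod.lift_snd]⟩
  have hER : SGA4.IsEquivRel (m ≫ prod.fst) (m ≫ prod.snd) := by
    refine fun T => ⟨fun f g h => (cancel_mono m).1 (prod.hom_ext ?_ ?_), ?_⟩
    · simpa using congrArg Prod.fst h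
    · simpa using congrArg Prod.snd h
    · exact ⟨fun s => (hrel T s s).2 fun _ _ => rfl,
        fun {s t} h => (hrel T t s).2 fun c x => ((hrel T s t).1 h c x).symm,
        fun {r s t} h h' => (hrel T r t).2 fun c x => ((hrel T r s).1 h c x).trans ((hrel T s t).1 h' c x)⟩
  obtain ⟨B, π, hpb, hpo, huniv⟩ := A.hc _ _ _ _ hER
  haveI hπ : EffectiveEpi π :=
    ⟨⟨{ desc := fun e h => hpo.desc e e (h _ _ hpb.w)
        fac := fun e h => hpo.inl_desc e e (h _ _ hpb.w)
        uniq := fun e h k hk => hpo.hom_ext (hk.trans (hpo.inl_desc e e (h _ _ hpb.w)).symm)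
          (hk.trans (hpo.inr_desc e e (h _ _ hpb.w)).symm) }⟩⟩
  have hpair : ∀ {c : 𝒞} (s t : o c ⟶ cA.pt), s ≫ π = t ≫ π ↔ ∀ (d : 𝒞) (x : o d ⟶ o c), a d (x ≫ s) = a d (x ≫ t) :=
    fun {c} s t => by
      rw [← hrel]
      exact ⟨fun h => ⟨hpb.lift s t h, hpb.lift_fst _ _ _, hpb.lift_snd _ _ _⟩,
        fun ⟨f, h1, h2⟩ => by
          rw [← h1, ← h2]
          simpa using congrArg (f ≫ ·) hpb.w⟩
  -- sections over maps into the quotient
  let lifts : ∀ {c : 𝒞} (_ : o c ⟶ B), Sieve c := fun {c} x =>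
    { arrows := fun d k => ∃ l : o d ⟶ cA.pt, l ≫ π = k.hom ≫ x
      downward_closed := by
        rintro d d' k ⟨l, hl⟩ r
        exact ⟨r.hom ≫ l, by
          show (r.hom ≫ l) ≫ π = (r.hom ≫ k.hom) ≫ x
          rw [Category.assoc, Category.assoc, hl]⟩ }
  have hlifts : ∀ {c : 𝒞} (x : o c ⟶ B), SieveCov (lifts x) := fun {c} x =>
    sieveCov_of_cov A (cov_of_effectiveEpi π) c x _ fun d k _ t ht => ⟨t, ht⟩
  have hexB : ∀ (c : 𝒞) (x : o c ⟶ B), ∃ b : P.obj.obj (op c), ∀ (d : 𝒞) (k : d ⟶ c) (l : o d ⟶ cA.pt),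
      l ≫ π = k.hom ≫ x → P.obj.map k.op b = a d l := by
    intro c x
    have heq : ∀ {d : 𝒞} (l l' : o d ⟶ cA.pt), l ≫ π = l' ≫ π → a d l = a d l' := fun {d} l l' h => by
      simpa using (hpair l l').1 h d (𝟙 _)
    let fam : Presieve.FamilyOfElements P.obj (lifts x).arrows := fun d k hk => a d hk.choose
    have hfam : fam.Compatible := by
      intro d₁ d₂ e l₁ l₂ k₁ k₂ h₁ h₂ h
      simp only [fam, ha_nat]
      refine heq _ _ ?_
      rw [Category.assoc, Category.assoc, h₁.choose_spec, h₂.choose_spec, ← Category.assoc, ← Category.assoc]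
      exact congrArg (· ≫ x) (congrArg InducedCategory.Hom.hom h)
    refine ⟨(hP _ (hlifts x)).amalgamate fam hfam, fun d k l hl => ?_⟩
    have hk : lifts x k := ⟨l, hl⟩
    rw [(hP _ (hlifts x)).valid_glue hfam k hk]
    exact heq _ _ (hk.choose_spec.trans hl.symm)
  choose b hb' using hexB
  let φ : ((nerve A).obj B).obj ⟶ P.obj :=
    { app := fun c => ↾(b c.unop)
      naturality := fun c c' l => by
        ext x
        show b c'.unop (l.unop.hom ≫ x) = P.obj.map l (b c.unop x)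
        refine sep (hlifts (l.unop.hom ≫ x)) ?_
        rintro d k ⟨t, ht⟩
        rw [hb' _ _ d k t ht]
        refine (hb' c.unop x d (k ≫ l.unop) t (ht.trans (Category.assoc _ _ _).symm)).symm.trans ?_
        exact Functor.map_comp_apply P.obj l k.op _ }
  have hbij : ∀ c, Function.Bijective (φ.app c) := by
    rintro ⟨c⟩
    constructor
    · intro x y (h : b c x = b c y)
      refine hom_ext_of_cov (hlifts x) fun p => ?_
      obtain ⟨d, k, l, hl⟩ := p
      refine hom_ext_of_cov (hlifts (k.hom ≫ y)) fun q => ?_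
      obtain ⟨e, r, l', hl'⟩ := q
      show r.hom ≫ k.hom ≫ x = r.hom ≫ k.hom ≫ y
      rw [← hl, ← hl', ← Category.assoc]
      refine (hpair _ _).2 fun f z => ?_
      have e1 := hb' c x f (InducedCategory.homMk (X := f) (Y := e) z ≫ r ≫ k) (z ≫ r.hom ≫ l)
        (by
            show (z ≫ r.hom ≫ l) ≫ π = (z ≫ r.hom ≫ k.hom) ≫ x
            simp only [Category.assoc, hl]
            first | done | exact ((Category.assoc _ _ _).trans (congrArg (z ≫ ·) (Category.assoc _ _ _))).symm)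
      have e2 := hb' c y f (InducedCategory.homMk (X := f) (Y := e) z ≫ r ≫ k) (z ≫ l')
        (by
            show (z ≫ l') ≫ π = (z ≫ r.hom ≫ k.hom) ≫ y
            simp only [Category.assoc, hl']
            first | done | exact ((Category.assoc _ _ _).trans (congrArg (z ≫ ·) (Category.assoc _ _ _))).symm)
      rw [h] at e1
      exact e1.symm.trans e2
    · intro s
      refine ⟨cA.inj ⟨c, s⟩ ≫ π, ?_⟩
      show b c (cA.inj ⟨c, s⟩ ≫ π) = s
      have h1 := hb' c (cA.inj ⟨c, s⟩ ≫ π) c (𝟙 c) (cA.inj ⟨c, s⟩) (Category.id_comp _).symm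
      have h2 := ha c (cA.inj ⟨c, s⟩) c (𝟙 c) ⟨c, s⟩ (𝟙 c) rfl
      simp only [op_id, Functor.map_id_apply] at h1 h2
      exact h1.trans h2
  haveI : ∀ c, IsIso (φ.app c) := fun c => (isIso_iff_bijective _).2 (hbij c)
  haveI : IsIso φ := NatIso.isIso_of_isIso_app φ
  exact ⟨B, ⟨(fullyFaithfulSheafToPresheaf (topology A) (Type u)).preimageIso (asIso φ)⟩⟩

include A in
theorem isTopos : SGA4.IsTopos.{v, u} E := by
  haveI := nerve_faithful A
  haveI := nerve_full A
  haveI : (nerve A).EssSurj := ⟨fun P => exists_iso_nerve A P⟩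
  haveI : (nerve A).IsEquivalence := { }
  exact ⟨InducedCategory E o, inferInstance, topology A, ⟨(nerve A).asEquivalence⟩⟩

/-- Giraud's theorem. -/
theorem giraud (hb : SGA4.HasDisjointUniversalCoproducts.{v, u} E)
    (hc : ∀ (R A : E) (p₁ p₂ : R ⟶ A), SGA4.IsEquivRel p₁ p₂ → SGA4.IsEffectiveUniversalEquivRel p₁ p₂)
    (hd : ∃ P : ObjectProperty E, ObjectProperty.Small.{u} P ∧ P.IsDetecting) :
    SGA4.IsTopos.{v, u} E := by
  obtain ⟨P, hP, hdet⟩ := hd
  haveI : Small.{u} (Subtype P) := hP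
  refine isTopos (o := fun c : Shrink.{u} (Subtype P) => ((equivShrink (Subtype P)).symm c).1) ⟨hb, hc, fun X Y f h => ?_⟩
  refine hdet f fun G hG k => ?_
  have := h (equivShrink (Subtype P) ⟨G, hG⟩)
  rw [Equiv.symm_apply_apply] at this
  exact this k

end Groth.Agent.GiraudThm
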